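import Cfsg.Agent.Lib.Cert.Mat
import Cfsg.Agent.Lib.Cert.M22p.Pz
import Cfsg.Agent.Lib.Cert.Sch4

set_option autoImplicit false
set_option maxRecDepth 100000

namespace Cfsg.Agent.Ct.M22s.C3

open Cfsg.Agent.PC

open Cfsg.Agent.Fi Cfsg.Agent.Ct
def Ef_t : TN := (TN.node (TN.node (TN.leaf (nat_lit 0x4989045c3c3e4f142cff180f339c720dcd83306519c7b09c212e8a80e4a706c19114422648a144710900f0b40d174331680612c4a00c120c02c0001e054098825573a1eab1c58feb0a1df0a95b3a659e9862e771868a17a93a799b574835958d62c97a399669f8c5ad86a6c90d47a8640999608e956a6e8a641a4485fa7267645dd885a4a81d148057f4468cac9f243a8e6c62578d02889b67513ea0cf6a99ecaa6953aa93384de66dc07355069ccf7a50b7f5dd6e98c30e7e99cbd601689fe059cd5e9c16e2b9922e9622ae5b2c95b9493293d8b70e464a4d88553727c9a289ff4e09c6f5d27891a23610829317d4cc414817988a3e47e495013b4785314337528668763a0d21b1aa684c61a56b3014e60cb415d775c5651ec5b54d2c5113b24c3f1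191d3d0840f1083f0553c0e424052354c90e04d18868140b72a8322943a054740bc9621c6317c201bc130240f12822034270b0251081b0cc1900c00019f8a7ea6721cea564295a30a3dc7701ef7f62ca6dd6601909ce195e9749c24a6323ba225e57e5aabd565427783d4791a3da86349726694a8598e7c7a5e0ad2aa93a104fd179a9148297f8113167e20439f5a65cb691027992166e83855da496ac6c61ea8d4c6d528669dda45ee93ccf6aa253328b6d8df99d6b8a99553a7f2e98680a792c66d2b97130d832ad658e57856a31289ad2fceb90c9c3a1d72652c4f1534489f510e23de242351d85a077f9f268481421e33d07e3f1d1230783c1c2368756f1b9395411b0d569d0b1a4c9648c06256815cb75796e58855139324e1294dc3f25872468ff0f087414f92a0ed374460c0d23185e0e4610dca72d07d1c45b190252481224c84134670305210c1906c1708c3403c0b1202f09c200a80001803)) (TN.leaf (nat_lit 0x7a601818dba5cd233e4270d0268670319679b1fe2f6859a158405802d140971745c65e4b8e9666642a25a295873ca552724c925d55057b436363623a24d6c8c4d68ae1b8961f23a13211fb4f0987b1a4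610fc775d72655472dc55a4e41bc726d9354a1b06b4ba3259b1985a63ccc21d7d150621455f5645f1154d3cd094bc3c4648a2dd110d8631ec300e8de3842712cc31f8af28cc006cb12ac4e1a42a27c2603c901dc810cc780b4481b0430840715c03030000fc1502420060127e2afa8ddc716ac8c256909f0741d7a3a258b23d8798678a6d835745ea79939897766197a395669f541569ae1b91947a6e856e25c675ada868a4828b6461fa0e4a81db44527645e165fe014c5a5ac90e7ca997b19e409e39f664aaa917251ca55b175aa64ad403919a8ee15736316a8cf7f5a17a6356e94e5ae232f6679fd83602059c1779cd6e5c5922e8b42dd5f2ca5893cd294997272433ac99700e8258d9355ff24dc336c8d8a0f774a0a841117d4cc318c97988a2108747cf33b4f05193d6f075379264dd3254da742d05420c33018c5a1625955e2b857140561b03f529414e12c10d233fcf93f0690f05a1e0e10b42a288810d4240841e1ecab298182a4150e8122489f1f84a03067024721bc0618c60174031444b114000d83009c1b03ea5799f6aa691ace576fe9a781b3a99fb72a6c911869d17a74deba05ef6a28962dcd7725d97d60a861393e2253557a1df352e3a8dd9b8c53f6458e4764c6b57645dab949a04519581ddf805eea390eaba429c1ff9deaf70e9781662518f69e9509968c3a9e5a75bc3e912a517d87e189bda4396118d16a829078b2299a2824b9806c27c5c21d5c578405993a4ef968a8566484f1ce9263f271d83f230554c8259324bd84)))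 (TN.node (TN.leaf (nat_lit 0x4a49a2fc8d894cf8660d6e1f83c8da64d025b1416edd43550c58dc5599a31c86f215093ccb4468b7229391985a49087330d2188541455c2944517d474a13524c3f480c92e8dd18c361ec3a0c0e13784b09cc3204b2280c006cae2ac221b0482881f2400f1e87e0cc750242a1a4061404415c03048150f0000b4240600c8660eaa6ac746129466f6f2268a9c3685ba64a857a1898624e5de2092a9e5b965801626de369617254ea19ea7291a43505388092f972314998ea569978e7548eb29f613a92b1469f54463c995a857a07475087b105a0e223f19b3e537486a63c1cb3b501a4ce4a6a8d980d56c0e837dfd3328e325dd318c3a20f58b27f2e94e2dd602c6762ba579a8ab2d2679857f7e55928a5227d8534947512402653b8f5d84ca37360938ba1c759f28288a21e04210817bde91f9c6781da1e190739c81d5af6fce16b06c4b1b3528696919e6619530057619805a17a5d16b12c48559500fd3e259292403c45d144390b408363d8ea1c86136ccf09c5e1c465078bd06c30060a8294451089c2340f1ec2a1442d0cc6603406168541380b0483909816084020129eabea3849e8ab1c2ad254899f693daa7be67855d1631d692a769ce4e8657aa21dd6015f8e6587e69ba46719ee4690d506ce059712f5112962e09a651d87d1a9b521a1aaa835238a63c4459c6a257a59e3a2dec67aa77c9c99911455a7da091072de2412a0531554297e8f5b03ae8e7f4cf37de9800c6539653e27f8b0bd30e616e26a5dd74578b12d0ab648b797972565d76f64065dc051e3127c9c388d528c968d0db8b89382a1888a1c235da805cf205ba325c61f8ee21d901e0863f9af1d4d44f5a34b06c4e0e5690694159860cc0618575896b5b8ae5a05413d375053e0fd32))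 (TN.leaf (nat_lit 0x2b2ab6b1945c9a8dd09de9a6cde0a35f8a4a0a632477722f9e69f98d9e7919662d629d16e5e55d5420daa94a51e848a1ab88d328dd394a67e48e434763f46a1c485f3451f194a8881dba6f19243a8e79e18845056fdf79be943e6803d946746a13b6a83a9a9))))
noncomputable def Ef (i : ℕ) : ℕ := get9 Ef_t (nat_lit 10) (nat_lit 1023) i
noncomputable def E (j c : ℕ) : ℕ := Ef (Nat.add (Nat.mul j (nat_lit 231)) c)
def iw (i : ℕ) : ℕ := Nat.land (Nat.shiftRight (nat_lit 0x1ac681) (Nat.mul (nat_lit 3) i)) (nat_lit 7)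
def ws : List (List ℕ × ℕ) := [([nat_lit 0, nat_lit 0, nat_lit 0], (nat_lit 0)), ([nat_lit 0, nat_lit 2, nat_lit 0, nat_lit 2, nat_lit 0, nat_lit 2], (nat_lit 0)), ([nat_lit 0, nat_lit 3, nat_lit 0, nat_lit 3, nat_lit 0, nat_lit 3], (nat_lit 0)), ([nat_lit 2, nat_lit 3, nat_lit 2, nat_lit 3], (nat_lit 0)), ([nat_lit 0, nat_lit 0, nat_lit 2, nat_lit 0, nat_lit 0, nat_lit 2, nat_lit 0, nat_lit 0, nat_lit 2], (nat_lit 0)), ([nat_lit 0, nat_lit 0, nat_lit 3, nat_lit 0, nat_lit 0, nat_lit 3, nat_lit 0, nat_lit 0, nat_lit 3], (nat_lit 0)), ([nat_lit 0, nat_lit 2, nat_lit 3, nat_lit 0, nat_lit 2, nat_lit 3, nat_lit 0, nat_lit 2, nat_lit 3], (nat_lit 0)), ([nat_lit 0, nat_lit 3, nat_lit 2, nat_lit 0, nat_lit 3, nat_lit 2, nat_lit 0, nat_lit 3, nat_lit 2], (nat_lit 0)), ([nat_lit 0, nat_lit 4, nat_lit 0, nat_lit 4, nat_lit 0, nat_lit 4, nat_lit 0, nat_lit 4, nat_lit 0, nat_lit 4],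 (nat_lit 2)), ([nat_lit 2, nat_lit 4, nat_lit 2, nat_lit 4, nat_lit 2, nat_lit 4, nat_lit 2, nat_lit 4, nat_lit 2, nat_lit 4], (nat_lit 0)), ([nat_lit 3, nat_lit 4, nat_lit 3, nat_lit 4, nat_lit 3, nat_lit 4, nat_lit 3, nat_lit 4], (nat_lit 0)), ([nat_lit 0, nat_lit 0, nat_lit 4, nat_lit 0, nat_lit 0, nat_lit 4, nat_lit 0, nat_lit 0, nat_lit 4, nat_lit 0, nat_lit 0, nat_lit 4, nat_lit 0, nat_lit 0, nat_lit 4], (nat_lit 1)), ([nat_lit 0, nat_lit 2, nat_lit 4, nat_lit 0, nat_lit 2, nat_lit 4, nat_lit 0, nat_lit 2, nat_lit 4], (nat_lit 0)), ([nat_lit 0, nat_lit 3, nat_lit 4, nat_lit 0, nat_lit 3, nat_lit 4, nat_lit 0, nat_lit 3, nat_lit 4, nat_lit 0, nat_lit 3, nat_lit 4, nat_lit 0, nat_lit 3, nat_lit 4], (nat_lit 2)), ([nat_lit 0, nat_lit 4, nat_lit 2, nat_lit 0, nat_lit 4, nat_lit 2, nat_lit 0, nat_lit 4, nat_lit 2, nat_lit 0, nat_lit 4, nat_lit 2, nat_lit 0, nat_lit 4,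 nat_lit 2], (nat_lit 2)), ([nat_lit 0, nat_lit 4, nat_lit 3, nat_lit 0, nat_lit 4, nat_lit 3, nat_lit 0, nat_lit 4, nat_lit 3, nat_lit 0, nat_lit 4, nat_lit 3, nat_lit 0, nat_lit 4, nat_lit 3], (nat_lit 2)), ([nat_lit 2, nat_lit 3, nat_lit 4, nat_lit 2, nat_lit 3, nat_lit 4, nat_lit 2, nat_lit 3, nat_lit 4, nat_lit 2, nat_lit 3, nat_lit 4, nat_lit 2, nat_lit 3, nat_lit 4], (nat_lit 0)), ([nat_lit 4, nat_lit 0, nat_lit 2, nat_lit 0, nat_lit 4, nat_lit 0, nat_lit 2, nat_lit 0], (nat_lit 1)), ([nat_lit 4, nat_lit 0, nat_lit 3, nat_lit 4, nat_lit 3, nat_lit 1, nat_lit 4, nat_lit 1, nat_lit 3, nat_lit 0, nat_lit 2], (nat_lit 0)), ([nat_lit 4, nat_lit 2, nat_lit 3, nat_lit 1, nat_lit 4, nat_lit 3, nat_lit 0, nat_lit 4, nat_lit 3, nat_lit 2, nat_lit 0, nat_lit 3], (nat_lit 1)), ([nat_lit 0, nat_lit 5, nat_lit 0, nat_lit 5], (nat_lit 0)), ([nat_lit 2, nat_lit 5, nat_lit 2, nat_lit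 5], (nat_lit 0)), ([nat_lit 3, nat_lit 5, nat_lit 3, nat_lit 5, nat_lit 3, nat_lit 5, nat_lit 3, nat_lit 5], (nat_lit 0)), ([nat_lit 4, nat_lit 5, nat_lit 4, nat_lit 5, nat_lit 4, nat_lit 5], (nat_lit 0)), ([nat_lit 0, nat_lit 0, nat_lit 5, nat_lit 0, nat_lit 0, nat_lit 5], (nat_lit 0)), ([nat_lit 0, nat_lit 2, nat_lit 5, nat_lit 0, nat_lit 2, nat_lit 5, nat_lit 0, nat_lit 2, nat_lit 5, nat_lit 0, nat_lit 2, nat_lit 5], (nat_lit 0)), ([nat_lit 0, nat_lit 3, nat_lit 5, nat_lit 0, nat_lit 3, nat_lit 5, nat_lit 0, nat_lit 3, nat_lit 5, nat_lit 0, nat_lit 3, nat_lit 5], (nat_lit 0)), ([nat_lit 0, nat_lit 4, nat_lit 5, nat_lit 0, nat_lit 4, nat_lit 5, nat_lit 0, nat_lit 4, nat_lit 5, nat_lit 0, nat_lit 4, nat_lit 5], (nat_lit 0)), ([nat_lit 0, nat_lit 5, nat_lit 2, nat_lit 0, nat_lit 5, nat_lit 2, nat_lit 0, nat_lit 5, nat_lit 2, nat_lit 0, nat_lit 5, nat_lit 2], (nat_lit 0)),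 ([nat_lit 0, nat_lit 5, nat_lit 3, nat_lit 0, nat_lit 5, nat_lit 3, nat_lit 0, nat_lit 5, nat_lit 3, nat_lit 0, nat_lit 5, nat_lit 3], (nat_lit 0)), ([nat_lit 0, nat_lit 5, nat_lit 4, nat_lit 0, nat_lit 5, nat_lit 4, nat_lit 0, nat_lit 5, nat_lit 4, nat_lit 0, nat_lit 5, nat_lit 4, nat_lit 0, nat_lit 5, nat_lit 4], (nat_lit 0)), ([nat_lit 2, nat_lit 3, nat_lit 5, nat_lit 2, nat_lit 3, nat_lit 5, nat_lit 2, nat_lit 3, nat_lit 5, nat_lit 2, nat_lit 3, nat_lit 5], (nat_lit 0)), ([nat_lit 2, nat_lit 4, nat_lit 5, nat_lit 2, nat_lit 4, nat_lit 5, nat_lit 2, nat_lit 4, nat_lit 5, nat_lit 2, nat_lit 4, nat_lit 5, nat_lit 2, nat_lit 4, nat_lit 5], (nat_lit 0)), ([nat_lit 3, nat_lit 4, nat_lit 5, nat_lit 3, nat_lit 4, nat_lit 5, nat_lit 3, nat_lit 4, nat_lit 5, nat_lit 3, nat_lit 4, nat_lit 5, nat_lit 3, nat_lit 4, nat_lit 5, nat_lit 3, nat_lit 4, nat_lit 5, nat_lit 3, nat_lit 4,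 nat_lit 5], (nat_lit 2)), ([nat_lit 5, nat_lit 3, nat_lit 5, nat_lit 0, nat_lit 3, nat_lit 2, nat_lit 1, nat_lit 2], (nat_lit 0)), ([nat_lit 0, nat_lit 6, nat_lit 0, nat_lit 6, nat_lit 0, nat_lit 6, nat_lit 0, nat_lit 6, nat_lit 0, nat_lit 6], (nat_lit 1)), ([nat_lit 2, nat_lit 6, nat_lit 2, nat_lit 6, nat_lit 2, nat_lit 6], (nat_lit 0)), ([nat_lit 3, nat_lit 6, nat_lit 3, nat_lit 6, nat_lit 3, nat_lit 6, nat_lit 3, nat_lit 6, nat_lit 3, nat_lit 6], (nat_lit 0)), ([nat_lit 4, nat_lit 6, nat_lit 4, nat_lit 6], (nat_lit 0)), ([nat_lit 5, nat_lit 6, nat_lit 5, nat_lit 6, nat_lit 5, nat_lit 6], (nat_lit 0)), ([nat_lit 0, nat_lit 0, nat_lit 6, nat_lit 0, nat_lit 0, nat_lit 6, nat_lit 0, nat_lit 0, nat_lit 6, nat_lit 0, nat_lit 0, nat_lit 6, nat_lit 0, nat_lit 0, nat_lit 6], (nat_lit 2)), ([nat_lit 0, nat_lit 2, nat_lit 6, nat_lit 0, nat_lit 2, nat_lit 6, nat_lit 0, nat_lit 2,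 nat_lit 6, nat_lit 0, nat_lit 2, nat_lit 6], (nat_lit 0)), ([nat_lit 0, nat_lit 3, nat_lit 6, nat_lit 0, nat_lit 3, nat_lit 6, nat_lit 0, nat_lit 3, nat_lit 6, nat_lit 0, nat_lit 3, nat_lit 6, nat_lit 0, nat_lit 3, nat_lit 6, nat_lit 0, nat_lit 3, nat_lit 6, nat_lit 0, nat_lit 3, nat_lit 6], (nat_lit 2)), ([nat_lit 0, nat_lit 4, nat_lit 6, nat_lit 0, nat_lit 4, nat_lit 6, nat_lit 0, nat_lit 4, nat_lit 6, nat_lit 0, nat_lit 4, nat_lit 6, nat_lit 0, nat_lit 4, nat_lit 6], (nat_lit 0)), ([nat_lit 0, nat_lit 5, nat_lit 6, nat_lit 0, nat_lit 5, nat_lit 6, nat_lit 0, nat_lit 5, nat_lit 6, nat_lit 0, nat_lit 5, nat_lit 6], (nat_lit 0)), ([nat_lit 0, nat_lit 6, nat_lit 2, nat_lit 0, nat_lit 6, nat_lit 2, nat_lit 0, nat_lit 6, nat_lit 2, nat_lit 0, nat_lit 6, nat_lit 2, nat_lit 0, nat_lit 6, nat_lit 2], (nat_lit 1)), ([nat_lit 0, nat_lit 6, nat_lit 3, nat_lit 0, nat_lit 6, nat_lit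 3, nat_lit 0, nat_lit 6, nat_lit 3, nat_lit 0, nat_lit 6, nat_lit 3, nat_lit 0, nat_lit 6, nat_lit 3], (nat_lit 2)), ([nat_lit 0, nat_lit 6, nat_lit 4, nat_lit 0, nat_lit 6, nat_lit 4, nat_lit 0, nat_lit 6, nat_lit 4, nat_lit 0, nat_lit 6, nat_lit 4, nat_lit 0, nat_lit 6, nat_lit 4], (nat_lit 0)), ([nat_lit 0, nat_lit 6, nat_lit 5, nat_lit 0, nat_lit 6, nat_lit 5, nat_lit 0, nat_lit 6, nat_lit 5, nat_lit 0, nat_lit 6, nat_lit 5, nat_lit 0, nat_lit 6, nat_lit 5], (nat_lit 0)), ([nat_lit 2, nat_lit 3, nat_lit 6, nat_lit 2, nat_lit 3, nat_lit 6, nat_lit 2, nat_lit 3, nat_lit 6, nat_lit 2, nat_lit 3, nat_lit 6, nat_lit 2, nat_lit 3, nat_lit 6], (nat_lit 0)), ([nat_lit 2, nat_lit 4, nat_lit 6, nat_lit 2, nat_lit 4, nat_lit 6, nat_lit 2, nat_lit 4, nat_lit 6, nat_lit 2, nat_lit 4, nat_lit 6, nat_lit 2, nat_lit 4, nat_lit 6], (nat_lit 0)), ([nat_lit 2, nat_lit 5, nat_lit 6, nat_lit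 2, nat_lit 5, nat_lit 6, nat_lit 2, nat_lit 5, nat_lit 6, nat_lit 2, nat_lit 5, nat_lit 6], (nat_lit 0)), ([nat_lit 3, nat_lit 4, nat_lit 6, nat_lit 3, nat_lit 4, nat_lit 6, nat_lit 3, nat_lit 4, nat_lit 6, nat_lit 3, nat_lit 4, nat_lit 6, nat_lit 3, nat_lit 4, nat_lit 6], (nat_lit 0)), ([nat_lit 4, nat_lit 5, nat_lit 6, nat_lit 4, nat_lit 5, nat_lit 6, nat_lit 4, nat_lit 5, nat_lit 6, nat_lit 4, nat_lit 5, nat_lit 6], (nat_lit 0)), ([nat_lit 6, nat_lit 2, nat_lit 1, nat_lit 6, nat_lit 1, nat_lit 2, nat_lit 4, nat_lit 1], (nat_lit 2)), ([nat_lit 6, nat_lit 5, nat_lit 1, nat_lit 6, nat_lit 4, nat_lit 2, nat_lit 5, nat_lit 4], (nat_lit 0)), ([nat_lit 6, nat_lit 3, nat_lit 4, nat_lit 3, nat_lit 6, nat_lit 3, nat_lit 1, nat_lit 2, nat_lit 4, nat_lit 3, nat_lit 2, nat_lit 4], (nat_lit 2)), ([nat_lit 6, nat_lit 0, nat_lit 3, nat_lit 1, nat_lit 6, nat_lit 3, nat_lit 6, nat_lit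 3, nat_lit 4, nat_lit 3, nat_lit 4, nat_lit 0, nat_lit 2, nat_lit 3], (nat_lit 0)), ([nat_lit 0, nat_lit 1], (nat_lit 0)), ([nat_lit 1, nat_lit 0], (nat_lit 0)), ([nat_lit 2, nat_lit 2], (nat_lit 0)), ([nat_lit 3, nat_lit 3], (nat_lit 0)), ([nat_lit 4, nat_lit 4], (nat_lit 0)), ([nat_lit 5, nat_lit 5], (nat_lit 0)), ([nat_lit 6, nat_lit 6], (nat_lit 0))]
noncomputable def f1 : ℕ → ℕ := permE (mT E (nat_lit 3)) iw (nat_lit 693) (nat_lit 7)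
noncomputable def f2 : ℕ → ℕ := scE E (nat_lit 3) ws
theorem ca0 : Nat.beq (rng f1 (nat_lit 0) (nat_lit 693)) (nat_lit 0) = true := by decide +kernel
theorem cb0 : Nat.beq (rng f2 (nat_lit 0) (nat_lit 229)) (nat_lit 0) = true := by decide +kernel
theorem cb229 : Nat.beq (rng f2 (nat_lit 229) (nat_lit 2)) (nat_lit 0) = true := by decide +kernel
theorem h1 : ∀ i < 693, f1 i = 0 := by
  have h := zero_lt_zero f1
  have h := zero_lt_add (a := (nat_lit 0)) (n := (nat_lit 693)) (b := (nat_lit 693)) h ca0 rfl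
  exact h
theorem h2 : ∀ i < 231, f2 i = 0 := by
  have h := zero_lt_zero f2
  have h := zero_lt_add (a := (nat_lit 0)) (n := (nat_lit 229)) (b := (nat_lit 229)) h cb0 rfl
  have h := zero_lt_add (a := (nat_lit 229)) (n := (nat_lit 2)) (b := (nat_lit 231)) h cb229 rfl
  exact h
theorem lok : LoK (G22) 3 := lok_mono M22p.top M22p.ub M22p.iv M22p.rl (M := 692) (N := 231) rfl (by decide +kernel) h1 h2
  (u := [nat_lit 1, nat_lit 4, nat_lit 3, nat_lit 1, nat_lit 5, nat_lit 4, nat_lit 0, nat_lit 6, nat_lit 3, nat_lit 5]) (v := [nat_lit 1, nat_lit 4, nat_lit 3, nat_lit 5, nat_lit 4, nat_lit 1, nat_lit 6, nat_lit 1, nat_lit 4, nat_lit 3, nat_lit 5]) (by decide +kernel) ((M22p.md).eq (by decide +kernel))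

end Cfsg.Agent.Ct.M22s.C3
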