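import Cfsg.Agent.Lib.Cert.Mat
import Cfsg.Agent.Lib.Cert.Sch2

set_option autoImplicit false
set_option maxRecDepth 100000

namespace Cfsg.Agent.Ct.M22s.S2

open Cfsg.Agent.PC

open Cfsg.Agent.Fi Cfsg.Agent.Ct
def W_t : TL := (TL.node (TL.node (TL.node (TL.node (TL.node (TL.leaf []) (TL.leaf [nat_lit 0, nat_lit 5, nat_lit 5, nat_lit 5, nat_lit 5, nat_lit 2, nat_lit 3, nat_lit 3, nat_lit 3, nat_lit 3, nat_lit 4, nat_lit 4, nat_lit 4, nat_lit 4, nat_lit 4, nat_lit 4, nat_lit 3, nat_lit 3, nat_lit 3, nat_lit 3, nat_lit 0, nat_lit 0, nat_lit 1, nat_lit 0, nat_lit 3, nat_lit 3, nat_lit 3, nat_lit 3, nat_lit 1, nat_lit 5, nat_lit 1])) (TL.leaf [nat_lit 5, nat_lit 5, nat_lit 5, nat_lit 5, nat_lit 1, nat_lit 0, nat_lit 5, nat_lit 5, nat_lit 5, nat_lit 5, nat_lit 0, nat_lit 2, nat_lit 2, nat_lit 3, nat_lit 3, nat_lit 3, nat_lit 3, nat_lit 3, nat_lit 3, nat_lit 3, nat_lit 3, nat_lit 5, nat_lit 5, nat_lit 5, nat_lit 5, nat_lit 3, nat_lit 3, nat_lit 3, nat_lit 3, nat_lit 5, nat_lit 2, nat_lit 2])) (TL.node (TL.leaf [nat_lit 5, nat_lit 5, nat_lit 5,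 nat_lit 5, nat_lit 0, nat_lit 0, nat_lit 5, nat_lit 5, nat_lit 5, nat_lit 5, nat_lit 0, nat_lit 0, nat_lit 2, nat_lit 1, nat_lit 5, nat_lit 1, nat_lit 5]) (TL.leaf [nat_lit 1, nat_lit 2, nat_lit 2, nat_lit 5, nat_lit 0, nat_lit 0, nat_lit 0, nat_lit 0, nat_lit 1, nat_lit 0, nat_lit 4, nat_lit 4, nat_lit 4, nat_lit 4, nat_lit 4, nat_lit 4, nat_lit 5, nat_lit 3, nat_lit 4, nat_lit 1]))) (TL.node (TL.node (TL.leaf [nat_lit 3, nat_lit 4, nat_lit 3, nat_lit 4, nat_lit 4, nat_lit 4, nat_lit 4, nat_lit 4, nat_lit 4, nat_lit 3, nat_lit 3, nat_lit 3, nat_lit 3, nat_lit 3, nat_lit 3, nat_lit 3, nat_lit 3, nat_lit 5, nat_lit 1, nat_lit 3]) (TL.leaf [nat_lit 2, nat_lit 2, nat_lit 0, nat_lit 5, nat_lit 5, nat_lit 5, nat_lit 5, nat_lit 2, nat_lit 4, nat_lit 4, nat_lit 4, nat_lit 4, nat_lit 4, nat_lit 4, nat_lit 3, nat_lit 3, nat_lit 3, nat_lit 3, nat_lit 0, nat_lit 0, nat_lit 5, nat_lit 1])) (TL.node (TL.leaf [nat_lit 1, nat_lit 0, nat_lit 0, nat_lit 5, nat_lit 0, nat_lit 0, nat_lit 2, nat_lit 5, nat_lit 5, nat_lit 5, nat_lit 5, nat_lit 0, nat_lit 3,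 nat_lit 3, nat_lit 3, nat_lit 3, nat_lit 2, nat_lit 3, nat_lit 3, nat_lit 3, nat_lit 3, nat_lit 0, nat_lit 0]) (TL.leaf [nat_lit 1, nat_lit 4, nat_lit 3, nat_lit 1, nat_lit 3, nat_lit 0, nat_lit 4, nat_lit 5, nat_lit 0, nat_lit 4, nat_lit 5, nat_lit 5, nat_lit 5, nat_lit 5, nat_lit 3])))) (TL.node (TL.node (TL.node (TL.leaf [nat_lit 2, nat_lit 0, nat_lit 0, nat_lit 5, nat_lit 5, nat_lit 4, nat_lit 5, nat_lit 2, nat_lit 3, nat_lit 3, nat_lit 3, nat_lit 3, nat_lit 0, nat_lit 5, nat_lit 2, nat_lit 2, nat_lit 5, nat_lit 5, nat_lit 5, nat_lit 5, nat_lit 4, nat_lit 4, nat_lit 4, nat_lit 4, nat_lit 4, nat_lit 4, nat_lit 1, nat_lit 2]) (TL.leaf [nat_lit 4, nat_lit 5, nat_lit 1, nat_lit 5, nat_lit 5, nat_lit 5, nat_lit 5, nat_lit 4, nat_lit 4, nat_lit 4, nat_lit 4, nat_lit 4, nat_lit 4, nat_lit 2, nat_lit 0, nat_lit 0, nat_lit 0, nat_lit 0, nat_lit 3, nat_lit 3, nat_lit 3, nat_lit 3, nat_lit 4, nat_lit 4, nat_lit 4, nat_lit 4, nat_lit 4, nat_lit 4])) (TL.node (TL.leaf [nat_lit 1, nat_lit 2, nat_lit 2, nat_lit 5, nat_lit 0, nat_lit 0, nat_lit 3, nat_lit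 3, nat_lit 3, nat_lit 3, nat_lit 2, nat_lit 3, nat_lit 4, nat_lit 4, nat_lit 4, nat_lit 4, nat_lit 4, nat_lit 4, nat_lit 0, nat_lit 0, nat_lit 5, nat_lit 5, nat_lit 5, nat_lit 5, nat_lit 2, nat_lit 3, nat_lit 2]) (TL.leaf [nat_lit 0, nat_lit 5, nat_lit 5, nat_lit 5, nat_lit 5, nat_lit 2, nat_lit 3, nat_lit 3, nat_lit 3, nat_lit 3, nat_lit 4, nat_lit 4, nat_lit 4, nat_lit 4, nat_lit 4, nat_lit 4, nat_lit 3, nat_lit 3, nat_lit 3, nat_lit 3, nat_lit 0, nat_lit 0, nat_lit 5, nat_lit 0, nat_lit 0, nat_lit 1, nat_lit 4, nat_lit 0]))) (TL.node (TL.node (TL.leaf [nat_lit 0, nat_lit 5, nat_lit 5, nat_lit 5, nat_lit 5, nat_lit 2, nat_lit 1, nat_lit 5, nat_lit 2, nat_lit 2, nat_lit 4, nat_lit 3, nat_lit 3, nat_lit 3, nat_lit 3, nat_lit 0, nat_lit 5, nat_lit 5, nat_lit 5, nat_lit 5, nat_lit 0, nat_lit 3, nat_lit 1]) (TL.leaf [nat_lit 5, nat_lit 5, nat_lit 5, nat_lit 5, nat_lit 1, nat_lit 0, nat_lit 5, nat_lit 5, nat_lit 5, nat_lit 5, nat_lit 0, nat_lit 2, nat_lit 2, nat_lit 0, nat_lit 0, nat_lit 5, nat_lit 0, nat_lit 0, nat_lit 5, nat_lit 1, nat_lit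 4, nat_lit 4, nat_lit 4, nat_lit 4, nat_lit 4, nat_lit 4, nat_lit 0, nat_lit 0])) (TL.node (TL.leaf [nat_lit 2, nat_lit 2, nat_lit 0, nat_lit 0, nat_lit 1, nat_lit 5, nat_lit 5, nat_lit 5, nat_lit 5, nat_lit 0, nat_lit 1, nat_lit 3, nat_lit 3, nat_lit 3, nat_lit 3, nat_lit 2, nat_lit 3, nat_lit 2, nat_lit 2, nat_lit 0, nat_lit 3, nat_lit 3, nat_lit 3, nat_lit 3, nat_lit 5, nat_lit 5, nat_lit 5, nat_lit 5]) (TL.leaf [nat_lit 0, nat_lit 5, nat_lit 5, nat_lit 5, nat_lit 5, nat_lit 2, nat_lit 4, nat_lit 4, nat_lit 4, nat_lit 4, nat_lit 4, nat_lit 4, nat_lit 5, nat_lit 1, nat_lit 5, nat_lit 5, nat_lit 5, nat_lit 5, nat_lit 5, nat_lit 5, nat_lit 5, nat_lit 5])))))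
noncomputable def W (i : ℕ) : List ℕ := TL.get W_t i
def B : List ℕ := [nat_lit 17, nat_lit 1, nat_lit 16, nat_lit 14, nat_lit 12, nat_lit 0, nat_lit 23]
noncomputable def q (j : ℕ) : G22 := ev (sub G22 (Spor.fam Spor.c24)) (W j)
noncomputable def Q (j : ℕ) : ℕ → ℕ := trF (Spor.TP Spor.c24) (W j)
theorem md : Md Spor.gp 24 B q Q 17 := (md22).words' (by decide +kernel)
def I (i : ℕ) : ℕ := Nat.land (Nat.shiftRight (nat_lit 0x8823000240002509800000000000000000000000000000000000000000000000000000000000000000000000000000000000000000000000000000000000000000000000000000000000000000000000001d0780007c200840000000000000000000000000000000000000000000000000000000000000000000000000000000000000000000000000000000000000000000000000000000000000000000000070000000000000000000000000000000000000000000000000000000000000000000000000000000000000000000000000000000000000000000000000000000000000000000000000000000000000006c1500000000000000000000000000000000000000000000000000000000000000000000000000000000000000000000000000000000000000000000000000000000000000000000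0000000000000000681403c00000000000000000000000000000000000000000000000000000000000000000000000000000000000000000000000000000000000000000000000000000000000000000000000000000000064130380a000000000000000000000000000000000000000000000000000000000000000000000000000000000000000000000000000000000000000000000000000000000000000000000000000000060120340901800000000000000000000000000000000000000000000000000000000000000000000000000000000000000000000000000000000000000000000000000000000000000000000000000005c11030080140300000000000000000000000000000000000000000000000000000000000000000000000000000000000000000000000000000000000000000000000000000000000000000000000000581002c0701002004000000000000000000000000000000000000000000000000000000000000000000000000000000000000000000000000000000000000000000000000000000000000000000000000000000000000000000) (Nat.mul (nat_lit 10) i)) (nat_lit 1023)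
def Ru_t1 : TN := (TN.node (TN.node (TN.node (TN.node (TN.leaf (nat_lit 0)) (TN.leaf (nat_lit 0x201085000000000202102))) (TN.leaf (nat_lit 0x46000000000046082))) (TN.node (TN.leaf (nat_lit 0x84000000000084082)) (TN.leaf (nat_lit 0x420c70000000000c7102)))) (TN.node (TN.node (TN.node (TN.leaf (nat_lit 0x43000000000043082)) (TN.leaf (nat_lit 0x241000000000244082))) (TN.leaf (nat_lit 0x43146000000000146102))) (TN.node (TN.leaf (nat_lit 0x85000000000085082)) (TN.leaf (nat_lit 0x1c7002)))))
def Ru_t2 : TN := (TN.node (TN.node (TN.node (TN.node (TN.leaf (nat_lit 0x42000000000042082)) (TN.leaf (nat_lit 0x242107000000000247102))) (TN.leaf (nat_lit 0xc60000000000c6082))) (TN.node (TN.leaf (nat_lit 0x104002)) (TN.leaf (nat_lit 0x11470000000001470c2)))) (TN.node (TN.node (TN.node (TN.leaf (nat_lit 798722)) (TN.leaf (nat_lit 0x90840000000002410c2))) (TN.leaf (nat_lit 0x47000000000047082))) (TN.node (TN.leaf (nat_lit 0x21050000000001050c2)) (TN.leaf (nat_lit 0x203000000000205082)))))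
def Ru_t3 : TN := (TN.node Ru_t1 Ru_t2)
def Ru_t4 : TN := (TN.node (TN.node (TN.node (TN.node (TN.leaf (nat_lit 266242)) (TN.leaf (nat_lit 0x80420000000002010c2))) (TN.leaf (nat_lit 0x10860000000000860c2))) (TN.node (TN.leaf (nat_lit 0x10c40000000000c40c2)) (TN.leaf (nat_lit 0x107000000000107082)))) (TN.node (TN.node (TN.node (TN.leaf (nat_lit 0x83000000000083082)) (TN.leaf (nat_lit 0x90870000000002420c2))) (TN.leaf (nat_lit 0x1000000000186042))) (TN.node (TN.leaf (nat_lit 0xc50000000000c5082)) (TN.leaf (nat_lit 0x201084147000000000206182)))))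
def Ru_t5 : TN := (TN.node (TN.node (TN.node (TN.node (TN.leaf (nat_lit 532482)) (TN.leaf (nat_lit 0x243187000000000246102))) (TN.leaf (nat_lit 0x106000000000106082))) (TN.node (TN.leaf (nat_lit 0x45000000000045082)) (TN.leaf (nat_lit 0x44187000000000187102)))) (TN.node (TN.node (TN.leaf (nat_lit 0x44000000000044082)) (TN.leaf (nat_lit 0x87000000000087082))) (TN.node (TN.leaf (nat_lit 0x145002)) (TN.leaf (nat_lit 0x201000000000203082)))))
def Ru_t6 : TN := (TN.node Ru_t4 Ru_t5)
def Ru_t : TN := (TN.node Ru_t3 Ru_t6)
noncomputable def Ru (i : ℕ) : ℕ := TN.get Ru_t i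
def D_t1 : TN := (TN.node (TN.node (TN.node (TN.node (TN.leaf (nat_lit 0x20000000000000001)) (TN.leaf (nat_lit 0x700000000000000000000000000000000000000000000000000000000000000000000000100000000000000000000000000000021))) (TN.node (TN.leaf (nat_lit 0x2000000000000000100000000000000000000000000000000000000000000000100000011)) (TN.leaf (nat_lit 0x70000000000000007000000000000000000000000000000000000000000000000000000000000000000000000000000000000000700000001000000070000000000000000000000000000000700000000000000070000000000000000000000000000000000000000000000000000000000000000000000000000000000000000000000070000000000000000000000010000000000000031)))) (TN.node (TN.node (TN.leaf (nat_lit 0x20000000000000000000000000000000000000000000000000000000000000000000000000000000000000000000000000000000000000000000000000000000000000000000000000000000000000000000000000000000000000009)) (TN.leaf (nat_lit 0x100000000000000000000000700000000000000000000000100000000000000000000000000000000000000000000000000000000000000000000000000000000000000000000000100000000000000000000000000000029)))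 (TN.leaf (nat_lit 0x200000000000000000000000000000000000000000000000000000000000000000000000000000000000000000000000100000000000000000000000000000000000000000000000000000019)))) (TN.node (TN.node (TN.node (TN.leaf (nat_lit 0x200000000000000000000000000000000000000000000000000000000000000000000000000000000000000000000000000000000000000000000000000000000000000000000000000000000000000000000000000000005)) (TN.leaf (nat_lit 0x700000000000000000000000000000000000000000000000000000000000000000000000000000000000000000000000000000000000000070000000000000000000000000000000000000000000000070000000000000025))) (TN.leaf (nat_lit 0x2000000000000000000000000000000000000000000000000000000000000000000000000000000000000000000000000000000000000000000000000000000000000000000000000000000000000000000000000000000000000000000000000000000000000000000000000000000000000000000000001000000010000000000000015))) (TN.node (TN.node (TN.leaf (nat_lit 0x20000000000000000000000000000000000000000000000000000000000000000000000000000000000000000000000000000000000000000000000000000000000000000000000000000000000000000000000000000000000000000000000000000000700000000000000000000000000000000000000010000000d))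 (TN.leaf (nat_lit 0x100000000000000010000000000000000000000000000000000000000000000070000000000000001000000000000000000000001000000000000000700000000000000000000000000000001000000000000000100000000000000000000002d))) (TN.leaf (nat_lit 0x6000000000000000000000000000000000000000000000000000000000000000000000000000000000000000000000000000000000000000000000007000000000000000000000000000000000000000000000000000000000000000000000000000000070000001d)))))
def D_t2 : TN := (TN.node (TN.node (TN.node (TN.node (TN.leaf (nat_lit 0x200000000000000000000000000000000000000000000000000000003)) (TN.leaf (nat_lit 0x20000000000000001000000000000000100000000000000000000000000000000000000010000000000000000000000000000000000000001000000000000000100000000000000000000000100000023))) (TN.leaf (nat_lit 0x20000000000000001000000000000000000000000000000000000000000000000000000000000000000000001000000000000000000000013))) (TN.node (TN.node (TN.leaf (nat_lit 0x20000000000000000000000000000000000000000000000000000000000000000000000000000000000000000000000000000000000000000000000000000000000000000000000000000000000000000000000000000000000000000000000000000000b))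 (TN.leaf (nat_lit 0x700000000000000000000000000000002000000010000000000000001000000010000000000000001000000010000000700000000000000000000000000000000000000000000000100000001000000000000000100000000000000010000000000000000000000010000000000000000000000000000000100000001000000010000002b))) (TN.leaf (nat_lit 0x200000001000000010000000000000000000000000000000000000000000000000000000000000000000000000000000000000000000000000000000000000000000000000000000000000000000000000000000100000001000000010000001b)))) (TN.node (TN.node (TN.node (TN.leaf (nat_lit 0x20000000000000000000000000000000000000000000000000000000000000007)) (TN.leaf (nat_lit 0x60000000000000000000000000000000000000000000000000000000700000000000000070000000000000000000000000000000000000007000000000000000700000000000000000000000700000027))) (TN.leaf (nat_lit 0x20000000000000000000000000000000000000000000000000000000000000000000000000000000000000000000000000000000000000000000000000000000000000000000000000000000000000000000000000000000000000000000000000000000000000000000000000000000100000000000000010000000000000000000000000000000000000001000000000000000700000017)))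 (TN.node (TN.node (TN.leaf (nat_lit 0x10000000000000000000000000000000000000000000000000000000000000000000000000000000000000000000000000000000000000000000000000000000f)) (TN.leaf (nat_lit 0x700000000000000000000000000000000000000000000000000000001000000000000000000000001000000010000000000000000000000000000000000000007000000000000000000000007000000000000000000000007000000000000000000000001000000000000000000000000000000000000000700000000000000000000002f))) (TN.leaf (nat_lit 0x2000000000000000000000000000000000000000000000000000000000000000000000000000000000000000000000000000000000000000000000000000000000000000100000000000000000000000100000001000000000000000000000000000000000000000000000000000000000000000000000001000000010000001f)))))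
def D_t3 : TN := (TN.node D_t1 D_t2)
def D_t4 : TN := (TN.node (TN.node (TN.node (TN.node (TN.leaf (nat_lit 0x200000000000000000000000000000002)) (TN.leaf (nat_lit 0x700000000000000070000000000000022))) (TN.node (TN.leaf (nat_lit 0x600000000000000000000000000000000000000000000000000000000000000000000000000000000000000000000000000000000000000000000000000000000000000000000000000000012)) (TN.leaf (nat_lit 0x10000000000000000000000000000000000000000000000000000000000000000000000000000000000000000000000000000000000000000000000000000000000000007000000000000000000000000000000000000000000000000000000000000000000000000)))) (TN.node (TN.node (TN.leaf (nat_lit 0x20000000000000000000000000000000000000000000000000000000000000000000000000000000000000000000000000000000a)) (TN.leaf (nat_lit 0x1000000000000000000000000000000000000000000000000000000000000000100000000000000010000000000000007000000000000000000000000000000010000002a))) (TN.leaf (nat_lit 0x6000000000000000000000000000000000000000000000000000000000000000000000000000000000000000000000000000000000000000000000007000000070000001a))))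 (TN.node (TN.node (TN.node (TN.leaf (nat_lit 0x20000000000000000000000000000000000000006)) (TN.leaf (nat_lit 0x6000000000000000000000000000000000000000000000000000000000000000000000000000000000000000000000000000000000000000000000000000000000000000000000000000000070000000700000007000000070000000700000026))) (TN.leaf (nat_lit 0x200000000000000000000000000000000000000000000000000000000000000000000000100000000000000000000000000000000000000010000000000000000000000000000000000000000000000000000000000000000000000000000000000000000000000000000000000000000000000000000000000000000000000000000000000000000000000000000000000000016))) (TN.node (TN.node (TN.leaf (nat_lit 0x200000000000000000000000000000000000000000000000000000000000000000000000000000000000000000000000000000000000000000000000000000000000000000000000000000000000000000000000000000000000000000000000000000000000000070000000000000000000000000000000000000000000000000000000000000000000000010000000e)) (TN.leaf (nat_lit 0x7000000000000000000000000000000000000000000000000000000000000000000000000000000000000000700000000000000000000000700000001000000000000000000000000000000000000000000000000000000000000000000000000000000000000000000000000000000070000000700000000000000000000000000000001000000000000000700000006000000070000002e)))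 (TN.leaf (nat_lit 0x200000000000000010000000000000000000000010000000000000000000000000000000000000000000000000000000000000000000000000000000000000000000000010000000000000000000000010000000000000000000000000000000000000000000000010000001e)))))
def D_t5 : TN := (TN.node (TN.node (TN.node (TN.node (TN.leaf (nat_lit 0x20000000000000000000000000000000000000000000000000000000000000000000000000000000000000004)) (TN.leaf (nat_lit 0x70000000000000000000000000000000000000000000000010000000100000000000000000000000000000024))) (TN.leaf (nat_lit 0x20000000000000000000000000000000100000000000000000000000000000000000000000000000000000000000000000000000000000000000000000000000000000000000000000000000000000000000000000000000000000000000000000000000100000014))) (TN.node (TN.node (TN.leaf (nat_lit 0x200000000000000000000000000000000000000000000000000000000000000000000000000000000000000000000000000000000000000000000000700000000000000000000000000000000000000000000000000000000000000000000000100000000000000000000000000000000000000000000000c)) (TN.leaf (nat_lit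 0x7000000000000000000000002000000000000000000000000000000000000000000000000000000010000000100000000000000000000000100000000000000000000000000000000000000010000000100000001000000000000000000000000000000000000000000000000000000000000000000000000000000010000000100000001000000020000000000000002000000020000002c))) (TN.leaf (nat_lit 0x6000000000000000000000000000000000000000000000007000000000000000000000000000000000000000700000000000000000000001c)))) (TN.node (TN.node (TN.node (TN.leaf (nat_lit 0x2000000000000000000000000000000000000000000000000000000000000000000000000000000000000000000000008)) (TN.leaf (nat_lit 0x700000000000000000000000100000000000000000000000000000000000000000000000000000000000000000000000000000000000000000000000000000000000000000000000100000000000000000000000000000000000000010000000000000028))) (TN.leaf (nat_lit 0x2000000000000000000000000000000000000000000000000000000000000000000000000000000000000000000000000000000000000000100000000000000000000000000000018))) (TN.node (TN.node (TN.leaf (nat_lit 0x6000000000000000000000000000000000000000000000000000000000000000000000000000000000000000000000000000000000000000000000000000000000000000000000010))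 (TN.leaf (nat_lit 0x7000000000000000700000000000000000000000000000000000000000000000000000001000000000000000000000000000000070000000000000000000000000000000000000000000000000000000100000001000000010000000000000001000000010000000100000000000000070000000700000000000000010000000000000030))) (TN.leaf (nat_lit 0x200000000000000000000000000000000000000000000000000000000000000000000000100000000000000010000000000000000000000000000000000000000000000000000000000000000000000000000000000000000000000000000000100000000000000010000000000000000000000000000000000000001000000000000000000000020)))))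
def D_t6 : TN := (TN.node D_t4 D_t5)
def D_t : TN := (TN.node D_t3 D_t6)
noncomputable def D (i : ℕ) : ℕ := TN.get D_t i
def La_t1 : TN := (TN.node (TN.node (TN.node (TN.node (TN.leaf (nat_lit 0x402000600060000000600000207060002000404000604020000000100030104000000000504040700030000000100000004)) (TN.leaf (nat_lit 0x606000204020400040604040605060402040404040704060400000304050704000000000700040500010000000300000004))) (TN.node (TN.leaf (nat_lit 0x4040000000000040400000402000604040404040604040004050600020200040000060602040200020000000600000004)) (TN.leaf (nat_lit 0x606000204020400040604040605060402040404040604060400000304050604000000000700040500010000000300000004)))) (TN.node (TN.node (TN.leaf (nat_lit 0x2000600060000020600000207000402000400000400020100020500070100000600040104000700030000000100000000)) (TN.leaf (nat_lit 0x70000000000000000000000000000))) (TN.leaf (nat_lit 0x406000200020000000200000205060006000000040200020004000300050300040700000700000500010000000300000000)))) (TN.node (TN.node (TN.node (TN.leaf (nat_lit 0)) (TN.leaf (nat_lit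 0))) (TN.node (TN.leaf (nat_lit 0)) (TN.leaf (nat_lit 0)))) (TN.node (TN.node (TN.leaf (nat_lit 0)) (TN.leaf (nat_lit 0))) (TN.leaf (nat_lit 0)))))
def La_t2 : TN := (TN.node (TN.node (TN.node (TN.node (TN.leaf (nat_lit 0)) (TN.leaf (nat_lit 0))) (TN.node (TN.leaf (nat_lit 0)) (TN.leaf (nat_lit 0)))) (TN.node (TN.node (TN.leaf (nat_lit 0)) (TN.leaf (nat_lit 0))) (TN.leaf (nat_lit 0)))) (TN.node (TN.node (TN.node (TN.leaf (nat_lit 0)) (TN.leaf (nat_lit 0))) (TN.node (TN.leaf (nat_lit 0)) (TN.leaf (nat_lit 0)))) (TN.node (TN.node (TN.leaf (nat_lit 0)) (TN.leaf (nat_lit 0))) (TN.leaf (nat_lit 0)))))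
def La_t3 : TN := (TN.node La_t1 La_t2)
def La_t4 : TN := (TN.node (TN.node (TN.node (TN.node (TN.leaf (nat_lit 0)) (TN.leaf (nat_lit 0x206020404000400060604000405020002020400040400040000060304030106000400020705010500010000000300000000))) (TN.node (TN.leaf (nat_lit 0)) (TN.leaf (nat_lit 0x700000000000000000000000000000000000000000000000000000000000000000000000000000000000000000000000000)))) (TN.node (TN.node (TN.leaf (nat_lit 0)) (TN.leaf (nat_lit 0))) (TN.leaf (nat_lit 0)))) (TN.node (TN.node (TN.node (TN.leaf (nat_lit 0)) (TN.leaf (nat_lit 0))) (TN.node (TN.leaf (nat_lit 0)) (TN.leaf (nat_lit 0)))) (TN.node (TN.node (TN.leaf (nat_lit 0)) (TN.leaf (nat_lit 0))) (TN.leaf (nat_lit 0)))))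
def La_t5 : TN := (TN.node (TN.node (TN.node (TN.node (TN.leaf (nat_lit 0)) (TN.leaf (nat_lit 0))) (TN.node (TN.leaf (nat_lit 0)) (TN.leaf (nat_lit 0)))) (TN.node (TN.node (TN.leaf (nat_lit 0)) (TN.leaf (nat_lit 0))) (TN.leaf (nat_lit 0)))) (TN.node (TN.node (TN.node (TN.leaf (nat_lit 0)) (TN.leaf (nat_lit 0))) (TN.node (TN.leaf (nat_lit 0)) (TN.leaf (nat_lit 0)))) (TN.node (TN.node (TN.leaf (nat_lit 0)) (TN.leaf (nat_lit 0))) (TN.leaf (nat_lit 0)))))
def La_t6 : TN := (TN.node La_t4 La_t5)
def La_t7 : TN := (TN.node La_t3 La_t6)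
def La_t8 : TN := (TN.node (TN.node (TN.node (TN.node (TN.leaf (nat_lit 0)) (TN.leaf (nat_lit 0x4040000000000040400000402000604050404040604040004050600020200040000060602040200020000000600000004))) (TN.node (TN.leaf (nat_lit 0x206020404000400060604000405020002020400040400040000060304030106000400020705000500010000000300000000)) (TN.leaf (nat_lit 0x406020200070000020200010207050602010400040700020104010700020406040400070705000700030000000100000000)))) (TN.node (TN.node (TN.leaf (nat_lit 0)) (TN.leaf (nat_lit 0x406020400000000020200040005020506060004040104000404050300030502040400010705040500010000000300000004))) (TN.leaf (nat_lit 0)))) (TN.node (TN.node (TN.node (TN.leaf (nat_lit 0)) (TN.leaf (nat_lit 0))) (TN.node (TN.leaf (nat_lit 0)) (TN.leaf (nat_lit 0)))) (TN.node (TN.node (TN.leaf (nat_lit 0)) (TN.leaf (nat_lit 0))) (TN.leaf (nat_lit 0)))))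
def La_t9 : TN := (TN.node (TN.node (TN.node (TN.node (TN.leaf (nat_lit 0)) (TN.leaf (nat_lit 0))) (TN.node (TN.leaf (nat_lit 0)) (TN.leaf (nat_lit 0)))) (TN.node (TN.node (TN.leaf (nat_lit 0)) (TN.leaf (nat_lit 0))) (TN.leaf (nat_lit 0)))) (TN.node (TN.node (TN.node (TN.leaf (nat_lit 0)) (TN.leaf (nat_lit 0))) (TN.node (TN.leaf (nat_lit 0)) (TN.leaf (nat_lit 0)))) (TN.node (TN.node (TN.leaf (nat_lit 0)) (TN.leaf (nat_lit 0))) (TN.leaf (nat_lit 0)))))
def La_t10 : TN := (TN.node La_t8 La_t9)
def La_t11 : TN := (TN.node (TN.node (TN.node (TN.node (TN.leaf (nat_lit 0)) (TN.leaf (nat_lit 0))) (TN.node (TN.leaf (nat_lit 0)) (TN.leaf (nat_lit 0x402020205060700030503030303000501070000070000050306020700020506060400040101000300070000000500000000)))) (TN.node (TN.node (TN.leaf (nat_lit 0)) (TN.leaf (nat_lit 0))) (TN.leaf (nat_lit 0)))) (TN.node (TN.node (TN.node (TN.leaf (nat_lit 0)) (TN.leaf (nat_lit 0))) (TN.node (TN.leaf (nat_lit 0)) (TN.leaf (nat_lit 0)))) (TN.node (TN.node (TN.leaf (nat_lit 0)) (TN.leaf (nat_lit 0))) (TN.leaf (nat_lit 0)))))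
def La_t12 : TN := (TN.node (TN.node (TN.node (TN.node (TN.leaf (nat_lit 0)) (TN.leaf (nat_lit 0))) (TN.node (TN.leaf (nat_lit 0)) (TN.leaf (nat_lit 0)))) (TN.node (TN.node (TN.leaf (nat_lit 0)) (TN.leaf (nat_lit 0))) (TN.leaf (nat_lit 0)))) (TN.node (TN.node (TN.node (TN.leaf (nat_lit 0)) (TN.leaf (nat_lit 0))) (TN.node (TN.leaf (nat_lit 0)) (TN.leaf (nat_lit 0)))) (TN.node (TN.node (TN.leaf (nat_lit 0)) (TN.leaf (nat_lit 0))) (TN.leaf (nat_lit 0)))))
def La_t13 : TN := (TN.node La_t11 La_t12)
def La_t14 : TN := (TN.node La_t10 La_t13)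
def La_t15 : TN := (TN.node La_t7 La_t14)
def La_t16 : TN := (TN.node (TN.node (TN.node (TN.node (TN.leaf (nat_lit 0)) (TN.leaf (nat_lit 0x206040404060400000604060407000406060004040004040100040304040107000000040306040700030000000100000004))) (TN.node (TN.leaf (nat_lit 0x602040204020400000204040207050606000004000504020404030504030100040000020102040700030000000100000004)) (TN.leaf (nat_lit 0x300030000000000000500070000000000040100000000000000000000000000000000000000)))) (TN.node (TN.node (TN.leaf (nat_lit 0x602040404020400000204020005040402020400000000000704040104040304040000040106000500010000000300000000)) (TN.leaf (nat_lit 0x602040204020400070204040207050606000004000504020404030504030100040100020102040700030000000100000004))) (TN.leaf (nat_lit 0x200000404040000060004040607040006040400020000060102000600020100020200040004000700030000000100000000)))) (TN.node (TN.node (TN.node (TN.leaf (nat_lit 0)) (TN.leaf (nat_lit 0))) (TN.node (TN.leaf (nat_lit 0)) (TN.leaf (nat_lit 0)))) (TN.node (TN.node (TN.leaf (nat_lit 0)) (TN.leaf (nat_lit 0))) (TN.leaf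 (nat_lit 0)))))
def La_t17 : TN := (TN.node (TN.node (TN.node (TN.node (TN.leaf (nat_lit 0)) (TN.leaf (nat_lit 0))) (TN.node (TN.leaf (nat_lit 0)) (TN.leaf (nat_lit 0)))) (TN.node (TN.node (TN.leaf (nat_lit 0)) (TN.leaf (nat_lit 0))) (TN.leaf (nat_lit 0)))) (TN.node (TN.node (TN.node (TN.leaf (nat_lit 0)) (TN.leaf (nat_lit 0))) (TN.node (TN.leaf (nat_lit 0)) (TN.leaf (nat_lit 0)))) (TN.node (TN.node (TN.leaf (nat_lit 0)) (TN.leaf (nat_lit 0))) (TN.leaf (nat_lit 0)))))
def La_t18 : TN := (TN.node La_t16 La_t17)
def La_t19 : TN := (TN.node (TN.node (TN.node (TN.node (TN.leaf (nat_lit 0)) (TN.leaf (nat_lit 0))) (TN.node (TN.leaf (nat_lit 0)) (TN.leaf (nat_lit 0)))) (TN.node (TN.node (TN.leaf (nat_lit 0)) (TN.leaf (nat_lit 0x6020305060301020503020700030307000000000300010205010304070505050000060705010000000000000000000000))) (TN.leaf (nat_lit 0)))) (TN.node (TN.node (TN.node (TN.leaf (nat_lit 0)) (TN.leaf (nat_lit 0))) (TN.node (TN.leaf (nat_lit 0)) (TN.leaf (nat_lit 0)))) (TN.node (TN.node (TN.leaf (nat_lit 0)) (TN.leaf (nat_lit 0))) (TN.leaf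 (nat_lit 0)))))
def La_t20 : TN := (TN.node (TN.node (TN.node (TN.node (TN.leaf (nat_lit 0)) (TN.leaf (nat_lit 0))) (TN.node (TN.leaf (nat_lit 0)) (TN.leaf (nat_lit 0)))) (TN.node (TN.node (TN.leaf (nat_lit 0)) (TN.leaf (nat_lit 0))) (TN.leaf (nat_lit 0)))) (TN.node (TN.node (TN.node (TN.leaf (nat_lit 0)) (TN.leaf (nat_lit 0))) (TN.node (TN.leaf (nat_lit 0)) (TN.leaf (nat_lit 0)))) (TN.node (TN.node (TN.leaf (nat_lit 0)) (TN.leaf (nat_lit 0))) (TN.leaf (nat_lit 0)))))
def La_t21 : TN := (TN.node La_t19 La_t20)
def La_t22 : TN := (TN.node La_t18 La_t21)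
def La_t23 : TN := (TN.node (TN.node (TN.node (TN.node (TN.leaf (nat_lit 0)) (TN.leaf (nat_lit 0))) (TN.node (TN.leaf (nat_lit 0)) (TN.leaf (nat_lit 0x200040202020400060406060201040004060004030604060407020704030400070200060002040100050000000700000004)))) (TN.node (TN.node (TN.leaf (nat_lit 0)) (TN.leaf (nat_lit 0x602040204020400000304040207060206000000000400020404050104070004040000050502000700030000000100000000))) (TN.leaf (nat_lit 0x400040606060400020402020607040004020004040204020402060104050500020600020006040700030000000100000004)))) (TN.node (TN.node (TN.node (TN.leaf (nat_lit 0)) (TN.leaf (nat_lit 0))) (TN.node (TN.leaf (nat_lit 0)) (TN.leaf (nat_lit 0)))) (TN.node (TN.node (TN.leaf (nat_lit 0)) (TN.leaf (nat_lit 0))) (TN.leaf (nat_lit 0)))))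
def La_t24 : TN := (TN.node (TN.node (TN.node (TN.node (TN.leaf (nat_lit 0)) (TN.leaf (nat_lit 0))) (TN.node (TN.leaf (nat_lit 0)) (TN.leaf (nat_lit 0)))) (TN.node (TN.node (TN.leaf (nat_lit 0)) (TN.leaf (nat_lit 0))) (TN.leaf (nat_lit 0)))) (TN.node (TN.node (TN.node (TN.leaf (nat_lit 0)) (TN.leaf (nat_lit 0))) (TN.node (TN.leaf (nat_lit 0)) (TN.leaf (nat_lit 0)))) (TN.node (TN.node (TN.leaf (nat_lit 0)) (TN.leaf (nat_lit 0))) (TN.leaf (nat_lit 0)))))
def La_t25 : TN := (TN.node La_t23 La_t24)
def La_t26 : TN := (TN.node (TN.node (TN.node (TN.node (TN.leaf (nat_lit 0)) (TN.leaf (nat_lit 0))) (TN.node (TN.leaf (nat_lit 0)) (TN.leaf (nat_lit 0)))) (TN.node (TN.node (TN.leaf (nat_lit 0)) (TN.leaf (nat_lit 0))) (TN.leaf (nat_lit 0)))) (TN.node (TN.node (TN.node (TN.leaf (nat_lit 0)) (TN.leaf (nat_lit 0))) (TN.node (TN.leaf (nat_lit 0)) (TN.leaf (nat_lit 0)))) (TN.node (TN.node (TN.leaf (nat_lit 0)) (TN.leaf (nat_lit 0))) (TN.leaf (nat_lit 0)))))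
def La_t27 : TN := (TN.node (TN.node (TN.node (TN.node (TN.leaf (nat_lit 0)) (TN.leaf (nat_lit 0))) (TN.node (TN.leaf (nat_lit 0)) (TN.leaf (nat_lit 0)))) (TN.node (TN.node (TN.leaf (nat_lit 0)) (TN.leaf (nat_lit 0))) (TN.leaf (nat_lit 0)))) (TN.node (TN.node (TN.node (TN.leaf (nat_lit 0)) (TN.leaf (nat_lit 0))) (TN.node (TN.leaf (nat_lit 0)) (TN.leaf (nat_lit 0)))) (TN.node (TN.node (TN.leaf (nat_lit 0)) (TN.leaf (nat_lit 0))) (TN.leaf (nat_lit 0)))))
def La_t28 : TN := (TN.node La_t26 La_t27)
def La_t29 : TN := (TN.node La_t25 La_t28)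
def La_t30 : TN := (TN.node La_t22 La_t29)
def La_t : TN := (TN.node La_t15 La_t30)
noncomputable def La (i : ℕ) : ℕ := TN.get La_t i
def Le_t : TN := (TN.leaf (nat_lit 0x4000400040000000400000000000000000000040000000004040600020000040000000200000000000007000000000001))
noncomputable def Le (i : ℕ) : ℕ := TN.get Le_t i
def C_t1 : TN := (TN.node (TN.node (TN.node (TN.node (TN.leaf (nat_lit 0)) (TN.leaf (nat_lit 0))) (TN.node (TN.leaf (nat_lit 0)) (TN.leaf (nat_lit 0)))) (TN.node (TN.node (TN.leaf (nat_lit 0)) (TN.leaf (nat_lit 0))) (TN.node (TN.leaf (nat_lit 0)) (TN.leaf (nat_lit 0))))) (TN.node (TN.node (TN.node (TN.leaf (nat_lit 0x1000000000000000000000000000000000000000000000000000000000000000000000000000000000000000000000000000000000000000000000000000000000000000000000007000000000000000000000000000000000000000000000000000000000000000000000000)) (TN.leaf (nat_lit 0))) (TN.node (TN.leaf (nat_lit 0)) (TN.leaf (nat_lit 0)))) (TN.node (TN.node (TN.leaf (nat_lit 0)) (TN.leaf (nat_lit 0))) (TN.node (TN.leaf (nat_lit 0)) (TN.leaf (nat_lit 0))))))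
def C_t2 : TN := (TN.node (TN.node (TN.node (TN.node (TN.leaf (nat_lit 0x10000000000000000000000000000000000000000000000000000000000000000000000000000000000000000000000000000000000000000)) (TN.leaf (nat_lit 0))) (TN.node (TN.leaf (nat_lit 0)) (TN.leaf (nat_lit 0)))) (TN.node (TN.node (TN.leaf (nat_lit 0)) (TN.leaf (nat_lit 0))) (TN.node (TN.leaf (nat_lit 0)) (TN.leaf (nat_lit 0))))) (TN.node (TN.node (TN.node (TN.leaf (nat_lit 0x50000000000000000000000000000000000000007000000070000000000000005000000000000000000000000000000000000000000000000000000000000000000000000000000000000000000000000000000010000000000000000000000000000000000000004000000000000000000000000000000000000000000000000000000000000000000000000)) (TN.leaf (nat_lit 0))) (TN.node (TN.leaf (nat_lit 0)) (TN.leaf (nat_lit 0)))) (TN.node (TN.node (TN.leaf (nat_lit 0)) (TN.leaf (nat_lit 0))) (TN.node (TN.leaf (nat_lit 0)) (TN.leaf (nat_lit 0))))))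
def C_t3 : TN := (TN.node C_t1 C_t2)
def C_t4 : TN := (TN.node (TN.node (TN.node (TN.node (TN.leaf (nat_lit 0x1000000000000000000000000000000000000000000000000000000000000000000000000)) (TN.leaf (nat_lit 0))) (TN.node (TN.leaf (nat_lit 0)) (TN.leaf (nat_lit 0)))) (TN.node (TN.node (TN.leaf (nat_lit 0)) (TN.leaf (nat_lit 0))) (TN.node (TN.leaf (nat_lit 0)) (TN.leaf (nat_lit 0))))) (TN.node (TN.node (TN.node (TN.leaf (nat_lit 0x7000000000000000000000000000000000000000000000000000000000000000000000000000000050000000000000000000000000000000000000000000000000000000000000000000000000000000000000003000000000000000000000000000000000000000000000000000000000000000000000000)) (TN.leaf (nat_lit 0))) (TN.node (TN.leaf (nat_lit 0)) (TN.leaf (nat_lit 0)))) (TN.node (TN.node (TN.leaf (nat_lit 0)) (TN.leaf (nat_lit 0))) (TN.node (TN.leaf (nat_lit 0)) (TN.leaf (nat_lit 0))))))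
def C_t5 : TN := (TN.node (TN.node (TN.node (TN.node (TN.leaf (nat_lit 0x10000000000000000000000000000000000000000000000000000000000000000000000000000000000000007000000000000000000000000000000000000000000000000000000000000000000000000)) (TN.leaf (nat_lit 0))) (TN.node (TN.leaf (nat_lit 0)) (TN.leaf (nat_lit 0)))) (TN.node (TN.node (TN.leaf (nat_lit 0)) (TN.leaf (nat_lit 0))) (TN.node (TN.leaf (nat_lit 0)) (TN.leaf (nat_lit 0))))) (TN.node (TN.node (TN.node (TN.leaf (nat_lit 0x50000000000000000000000000000000000000000000000000000000000000000000000000000000000000000000000000000000000000000000000030000000000000000000000000000000000000000000000000000000000000000000000000000000000000005000000000000000000000000000000000000000000000000000000000000000000000000)) (TN.leaf (nat_lit 0))) (TN.node (TN.leaf (nat_lit 0)) (TN.leaf (nat_lit 0)))) (TN.node (TN.node (TN.leaf (nat_lit 0)) (TN.leaf (nat_lit 0))) (TN.node (TN.leaf (nat_lit 0)) (TN.leaf (nat_lit 0))))))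
def C_t6 : TN := (TN.node C_t4 C_t5)
def C_t : TN := (TN.node C_t3 C_t6)
noncomputable def C (i : ℕ) : ℕ := TN.get C_t i
def e (i : ℕ) : ℕ := Nat.land (Nat.shiftRight (nat_lit 4) (Nat.mul (nat_lit 3) i)) (nat_lit 7)
def U_t : TL := (TL.node (TL.node (TL.node (TL.node (TL.node (TL.node (TL.leaf [nat_lit 1]) (TL.leaf [nat_lit 8])) (TL.node (TL.leaf [nat_lit 3]) (TL.leaf [nat_lit 9]))) (TL.node (TL.node (TL.leaf [nat_lit 2]) (TL.leaf [nat_lit 9])) (TL.leaf [nat_lit 4]))) (TL.node (TL.node (TL.node (TL.leaf [nat_lit 1]) (TL.leaf [nat_lit 9])) (TL.leaf [nat_lit 8])) (TL.node (TL.node (TL.leaf [nat_lit 8]) (TL.leaf [nat_lit 5])) (TL.leaf [nat_lit 5])))) (TL.node (TL.node (TL.node (TL.node (TL.leaf [nat_lit 1]) (TL.leaf [nat_lit 5])) (TL.leaf [nat_lit 4])) (TL.node (TL.node (TL.leaf [nat_lit 4]) (TL.leaf [nat_lit 8])) (TL.leaf [nat_lit 3]))) (TL.node (TL.node (TL.node (TL.leaf [nat_lit 2]) (TL.leaf [nat_lit 5])) (TL.leaf [nat_lit 9])) (TL.node (TL.node (TL.leaf [nat_lit 6]) (TL.leaf [nat_lit 8])) (TL.leaf [nat_lit 8]))))) (TL.node (TL.node (TL.node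 (TL.node (TL.node (TL.leaf [nat_lit 1]) (TL.leaf [nat_lit 8])) (TL.leaf [nat_lit 4])) (TL.node (TL.node (TL.leaf [nat_lit 3]) (TL.leaf [nat_lit 4])) (TL.leaf [nat_lit 2]))) (TL.node (TL.node (TL.node (TL.leaf [nat_lit 2]) (TL.leaf [nat_lit 3])) (TL.leaf [nat_lit 9])) (TL.node (TL.node (TL.leaf [nat_lit 9]) (TL.leaf [nat_lit 9])) (TL.leaf [nat_lit 6])))) (TL.node (TL.node (TL.node (TL.node (TL.leaf [nat_lit 1]) (TL.leaf [nat_lit 8])) (TL.leaf [nat_lit 5])) (TL.node (TL.node (TL.leaf [nat_lit 8]) (TL.leaf [nat_lit 9])) (TL.leaf [nat_lit 4]))) (TL.node (TL.node (TL.node (TL.leaf [nat_lit 2]) (TL.leaf [nat_lit 9])) (TL.leaf [nat_lit 3])) (TL.node (TL.node (TL.leaf [nat_lit 3]) (TL.leaf [nat_lit 8])) (TL.leaf [nat_lit 9]))))))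
noncomputable def U (i : ℕ) : List ℕ := TL.get U_t i
def V1_t : TL := (TL.node (TL.node (TL.node (TL.node (TL.node (TL.node (TL.leaf [nat_lit 2, nat_lit 2]) (TL.leaf [nat_lit 3, nat_lit 5])) (TL.node (TL.leaf [nat_lit 4, nat_lit 4]) (TL.leaf [nat_lit 6, nat_lit 7]))) (TL.node (TL.node (TL.leaf [nat_lit 7, nat_lit 7]) (TL.leaf [nat_lit 4, nat_lit 6])) (TL.leaf [nat_lit 6, nat_lit 6]))) (TL.node (TL.node (TL.node (TL.leaf [nat_lit 7, nat_lit 7]) (TL.leaf [nat_lit 2, nat_lit 4])) (TL.leaf [nat_lit 1, nat_lit 1])) (TL.node (TL.node (TL.leaf [nat_lit 3, nat_lit 3]) (TL.leaf [nat_lit 6, nat_lit 7])) (TL.leaf [nat_lit 5, nat_lit 7])))) (TL.node (TL.node (TL.node (TL.node (TL.leaf [nat_lit 4, nat_lit 4]) (TL.leaf [nat_lit 6, nat_lit 6])) (TL.leaf [nat_lit 5, nat_lit 5])) (TL.node (TL.node (TL.leaf [nat_lit 7, nat_lit 7]) (TL.leaf [nat_lit 6, nat_lit 6])) (TL.leaf [nat_lit 7, nat_lit 7]))) (TL.node (TL.node (TL.node (TL.leaf [nat_lit 4, nat_lit 4]) (TL.leaf [nat_lit 5, nat_lit 6])) (TL.leaf [nat_lit 1, nat_lit 1])) (TL.node (TL.node (TL.leaf [nat_lit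 6, nat_lit 6]) (TL.leaf [nat_lit 2, nat_lit 6])) (TL.leaf [nat_lit 2, nat_lit 2]))))) (TL.node (TL.node (TL.node (TL.node (TL.node (TL.leaf [nat_lit 3, nat_lit 3]) (TL.leaf [nat_lit 1, nat_lit 3])) (TL.leaf [nat_lit 4, nat_lit 6])) (TL.node (TL.node (TL.leaf [nat_lit 5, nat_lit 5]) (TL.leaf [nat_lit 5, nat_lit 6])) (TL.leaf [nat_lit 2, nat_lit 6]))) (TL.node (TL.node (TL.node (TL.leaf [nat_lit 3, nat_lit 3]) (TL.leaf [nat_lit 3, nat_lit 7])) (TL.leaf [nat_lit 2, nat_lit 2])) (TL.node (TL.node (TL.leaf [nat_lit 4, nat_lit 4]) (TL.leaf [nat_lit 2, nat_lit 6])) (TL.leaf [nat_lit 7, nat_lit 7])))) (TL.node (TL.node (TL.node (TL.node (TL.leaf [nat_lit 5, nat_lit 5]) (TL.leaf [nat_lit 1, nat_lit 5])) (TL.leaf [nat_lit 7, nat_lit 7])) (TL.node (TL.node (TL.leaf [nat_lit 5, nat_lit 5]) (TL.leaf [nat_lit 6, nat_lit 6])) (TL.leaf [nat_lit 4, nat_lit 5]))) (TL.node (TL.node (TL.node (TL.leaf [nat_lit 5, nat_lit 5]) (TL.leaf [nat_lit 4, nat_lit 7])) (TL.leaf [nat_lit 6, nat_lit 6])) (TL.node (TL.node (TL.leaf [nat_lit 3, nat_lit 6]) (TL.leaf [nat_lit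 5, nat_lit 6])) (TL.leaf [nat_lit 7, nat_lit 7]))))))
noncomputable def V1 (i : ℕ) : List ℕ := TL.get V1_t i
def V2_t : TL := (TL.node (TL.node (TL.node (TL.node (TL.node (TL.node (TL.leaf []) (TL.leaf [nat_lit 5, nat_lit 3])) (TL.node (TL.leaf []) (TL.leaf [nat_lit 7, nat_lit 6, nat_lit 4, nat_lit 1]))) (TL.node (TL.node (TL.leaf []) (TL.leaf [nat_lit 6, nat_lit 4])) (TL.leaf [nat_lit 1]))) (TL.node (TL.node (TL.node (TL.leaf []) (TL.leaf [nat_lit 4, nat_lit 2])) (TL.leaf [])) (TL.node (TL.node (TL.leaf []) (TL.leaf [nat_lit 7, nat_lit 6, nat_lit 4, nat_lit 1])) (TL.leaf [nat_lit 7, nat_lit 5, nat_lit 1])))) (TL.node (TL.node (TL.node (TL.node (TL.leaf []) (TL.leaf [nat_lit 1])) (TL.leaf [])) (TL.node (TL.node (TL.leaf []) (TL.leaf [nat_lit 1])) (TL.leaf []))) (TL.node (TL.node (TL.node (TL.leaf []) (TL.leaf [nat_lit 6, nat_lit 5, nat_lit 3, nat_lit 1])) (TL.leaf [])) (TL.node (TL.node (TL.leaf [nat_lit 1]) (TL.leaf [nat_lit 6, nat_lit 2, nat_lit 1])) (TL.leaf []))))) (TL.node (TL.node (TL.node (TL.node (TL.node (TL.leaf []) (TL.leaf [nat_lit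 3, nat_lit 1])) (TL.leaf [nat_lit 6, nat_lit 4])) (TL.node (TL.node (TL.leaf []) (TL.leaf [nat_lit 6, nat_lit 5, nat_lit 3, nat_lit 1])) (TL.leaf [nat_lit 6, nat_lit 2, nat_lit 1]))) (TL.node (TL.node (TL.node (TL.leaf []) (TL.leaf [nat_lit 7, nat_lit 3, nat_lit 2, nat_lit 1])) (TL.leaf [])) (TL.node (TL.node (TL.leaf []) (TL.leaf [nat_lit 6, nat_lit 2, nat_lit 1])) (TL.leaf [])))) (TL.node (TL.node (TL.node (TL.node (TL.leaf []) (TL.leaf [nat_lit 5, nat_lit 1])) (TL.leaf [])) (TL.node (TL.node (TL.leaf []) (TL.leaf [nat_lit 1])) (TL.leaf [nat_lit 5, nat_lit 4, nat_lit 2]))) (TL.node (TL.node (TL.node (TL.leaf []) (TL.leaf [nat_lit 7, nat_lit 4])) (TL.leaf [nat_lit 1])) (TL.node (TL.node (TL.leaf [nat_lit 6, nat_lit 3]) (TL.leaf [nat_lit 6, nat_lit 5, nat_lit 3, nat_lit 1])) (TL.leaf []))))))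
noncomputable def V2 (i : ℕ) : List ℕ := TL.get V2_t i
def Y_t : TL := (TL.node (TL.node (TL.node (TL.leaf [nat_lit 3]) (TL.leaf [nat_lit 7, nat_lit 5])) (TL.node (TL.leaf [nat_lit 3, nat_lit 1]) (TL.leaf [nat_lit 6, nat_lit 3, nat_lit 1]))) (TL.node (TL.node (TL.leaf [nat_lit 5, nat_lit 3]) (TL.leaf [nat_lit 7, nat_lit 5, nat_lit 4, nat_lit 1])) (TL.leaf [nat_lit 2])))
noncomputable def Y (i : ℕ) : List ℕ := TL.get Y_t i
def O_t : TL := (TL.node (TL.node (TL.node (TL.leaf [nat_lit 1]) (TL.leaf [nat_lit 7])) (TL.node (TL.leaf [nat_lit 1, nat_lit 3, nat_lit 19, nat_lit 4]) (TL.leaf [nat_lit 6]))) (TL.node (TL.node (TL.leaf [nat_lit 1, nat_lit 3]) (TL.leaf [nat_lit 7, nat_lit 11])) (TL.leaf [nat_lit 1, nat_lit 3, nat_lit 19, nat_lit 16, nat_lit 4, nat_lit 18, nat_lit 13, nat_lit 10])))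
noncomputable def O (i : ℕ) : List ℕ := TL.get O_t i
noncomputable def f1 : ℕ → ℕ := rvE Q B (nat_lit 17) Ru
noncomputable def f2 (j : ℕ) : ℕ := rlE I Ru (nat_lit 39) (nat_lit 8) (U j) (V1 j) (V2 j) (D j)
noncomputable def f3 : ℕ → ℕ := tgR I Ru (nat_lit 39) (nat_lit 2) (nat_lit 8) C D (nat_lit 50) La
noncomputable def f4 : ℕ → ℕ := chE Q B (nat_lit 24) (nat_lit 17) (nat_lit 7) (nat_lit 10) Y O
theorem ra0 : Nat.beq (rng f1 (nat_lit 0) (nat_lit 39)) (nat_lit 0) = true := by decide +kernel
theorem rb0 : Nat.beq (rng f2 (nat_lit 0) (nat_lit 49)) (nat_lit 0) = true := by decide +kernel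
theorem rc0 : Nat.beq (rng f3 (nat_lit 0) (nat_lit 7)) (nat_lit 0) = true := by decide +kernel
theorem rd0 : Nat.beq (rng f4 (nat_lit 0) (nat_lit 7)) (nat_lit 0) = true := by decide +kernel
theorem h1 : ∀ i < 39, f1 i = 0 := by
  have h := zero_lt_zero f1
  have h := zero_lt_add (a := (nat_lit 0)) (n := (nat_lit 39)) (b := (nat_lit 39)) h ra0 rfl
  exact h
theorem h2 : ∀ i < 49, f2 i = 0 := by
  have h := zero_lt_zero f2
  have h := zero_lt_add (a := (nat_lit 0)) (n := (nat_lit 49)) (b := (nat_lit 49)) h rb0 rfl
  exact h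
theorem h3 : ∀ i < 7, f3 i = 0 := by
  have h := zero_lt_zero f3
  have h := zero_lt_add (a := (nat_lit 0)) (n := (nat_lit 7)) (b := (nat_lit 7)) h rc0 rfl
  exact h
theorem h4 : ∀ i < 7, f4 i = 0 := by
  have h := zero_lt_zero f4
  have h := zero_lt_add (a := (nat_lit 0)) (n := (nat_lit 7)) (b := (nat_lit 7)) h rd0 rfl
  exact h
theorem nok : NoK (G22) (2 ^ (2 + 1)) := fun _ _ _ _ h =>
  (md.rv (I := I) (K := 39) rfl ⟨rfl, by decide⟩ (upTo_beq (by decide +kernel)) h1).core h (by norm_num)
    (md.syl (by norm_num) rfl (by decide) h4) (by rw [Spor.card22]; decide) (n := 8) (s := 1) (e := e) (L := Le) (C := C)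
    ⟨rfl, by decide, rfl, by decide, by decide, rfl, by decide⟩ h2 (upTo_beq (by decide +kernel)) (upTo_beq (by decide +kernel)) h3

end Cfsg.Agent.Ct.M22s.S2
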